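import Groth.Agent.CMClosed.Basic
import Groth.Agent.CurveBC.Geometry
import Groth.Agent.CurveCohLib.SubBundle
import Groth.Agent.Alg6.AssDepth

/-! A scheme whose only global functions are constants has no embedded closed points. -/

noncomputable section

set_option linter.style.haveILetI false
set_option linter.unusedSectionVars false
set_option backward.isDefEq.respectTransparency false
set_option backward.isDefEq.respectTransparency.types false

universe u

open CategoryTheory AlgebraicGeometry TopologicalSpace Opposite IsLocalRing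

namespace Groth.Agent.CurveCM

open Groth.Agent

variable {X : Scheme.{u}}

/-- A stalk element killed by the maximal ideal at a closed point extends to a global function
supported at the point. -/
theorem exists_global_supported [IsLocallyNoetherian X] {x : X} (hx : IsClosed ({x} : Set X))
    (z : X.presheaf.stalk x) (hz : ∀ a ∈ maximalIdeal (X.presheaf.stalk x), a * z = 0) :
    ∃ g : Γ(X, ⊤), X.presheaf.germ ⊤ x trivial g = z ∧
      ∀ y : X, y ≠ x → X.presheaf.germ ⊤ y trivial g = 0 := by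
  classical
  obtain ⟨_, ⟨U, hU, rfl⟩, hxU, -⟩ :=
    X.isBasis_affineOpens.exists_subset_of_mem_open (Set.mem_univ x) isOpen_univ
  obtain ⟨W, hxW, s, rfl⟩ := X.presheaf.exists_germ_eq (x := x) z
  haveI : IsNoetherianRing Γ(X, U) := IsLocallyNoetherian.component_noetherian ⟨U, hU⟩
  haveI := X.presheaf.algebra_section_stalk ⟨x, hxU⟩
  let M := (hU.primeIdealOf ⟨x, hxU⟩).asIdeal
  haveI hM : M.IsMaximal := hU.primeIdealOf_isMaximal_of_isClosed ⟨x, hxU⟩ hx
  obtain ⟨S, hS⟩ := (IsNoetherian.noetherian M : M.FG)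
  have hgm : ∀ g : Γ(X, U), g ∈ M → X.presheaf.germ U x hxU g ∈ maximalIdeal (X.presheaf.stalk x) := fun g hg => by
    rw [mem_maximalIdeal, mem_nonunits_iff]
    letI := X.presheaf.algebra_section_stalk ⟨x, hxU⟩
    haveI := hU.isLocalization_stalk ⟨x, hxU⟩
    exact fun hu => (IsLocalization.AtPrime.isUnit_to_map_iff (X.presheaf.stalk x) M g).1 hu hg
  have hloc : ∀ g : Γ(X, U), ∀ hg : g ∈ M, ∃ (V : X.Opens) (hVU : V ≤ U) (hVW : V ≤ W), x ∈ V ∧
      X.presheaf.map (homOfLE hVU).op g * X.presheaf.map (homOfLE hVW).op s = 0 := fun g hg => by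
    have h0 : X.presheaf.germ (U ⊓ W) x ⟨hxU, hxW⟩
        (X.presheaf.map (homOfLE inf_le_left).op g * X.presheaf.map (homOfLE inf_le_right).op s) =
        X.presheaf.germ (U ⊓ W) x ⟨hxU, hxW⟩ 0 := by
      rw [map_mul, X.presheaf.germ_res_apply, X.presheaf.germ_res_apply, map_zero]
      exact hz _ (hgm g hg)
    obtain ⟨V, hxV, i, j, hV⟩ := X.presheaf.germ_eq (U := U ⊓ W) (V := U ⊓ W) x _ _ _ _ h0
    refine ⟨V, i.le.trans inf_le_left, i.le.trans inf_le_right, hxV, ?_⟩
    rw [map_zero, map_mul, ← CommRingCat.comp_apply, ← CommRingCat.comp_apply, ← X.presheaf.map_comp,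
      ← X.presheaf.map_comp] at hV
    exact hV
  choose! V hVU hVW hxV hV using hloc
  let D : X.Opens := (U ⊓ W) ⊓ S.inf V
  have hxD : x ∈ D := ⟨⟨hxU, hxW⟩, by
    have key : ∀ t : Finset Γ(X, U), t ⊆ S → x ∈ t.inf V := by
      intro t
      induction t using Finset.induction with
      | empty => intro _; exact (trivial : x ∈ (⊤ : X.Opens))
      | insert a t ha ih =>
        intro ht
        rw [Finset.inf_insert]
        exact ⟨hxV a (hS ▸ Ideal.subset_span (ht (Finset.mem_insert_self a t))),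
          ih fun b hb => ht (Finset.mem_insert_of_mem hb)⟩
    exact key S subset_rfl⟩
  let sD : Γ(X, D) := X.presheaf.map (homOfLE (inf_le_left.trans inf_le_right : D ≤ W)).op s
  have hsupp : ∀ y : X, ∀ hy : y ∈ D, y ≠ x → X.presheaf.germ D y hy sD = 0 := fun y hy hne => by
    have hyU : y ∈ U := hy.1.1
    have hnle : ¬ M ≤ (hU.primeIdealOf ⟨y, hyU⟩).asIdeal := fun hle => hne (by
      have h1 := hM.eq_of_le (hU.primeIdealOf ⟨y, hyU⟩).isPrime.ne_top hle
      have h2 : hU.primeIdealOf ⟨x, hxU⟩ = hU.primeIdealOf ⟨y, hyU⟩ := PrimeSpectrum.ext h1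
      have h3 := congrArg hU.fromSpec h2
      rw [hU.fromSpec_primeIdealOf, hU.fromSpec_primeIdealOf] at h3
      exact h3.symm)
    obtain ⟨g, hgS, hgy⟩ : ∃ g ∈ S, g ∉ (hU.primeIdealOf ⟨y, hyU⟩).asIdeal := by
      by_contra! hall
      exact hnle (hS ▸ Ideal.span_le.2 hall)
    have hgM : g ∈ M := hS ▸ Ideal.subset_span hgS
    have hyV : y ∈ V g := Finset.inf_le (f := V) hgS hy.2
    have h0 := congrArg (X.presheaf.germ (V g) y hyV) (hV g hgM)
    rw [map_mul, X.presheaf.germ_res_apply, X.presheaf.germ_res_apply, map_zero] at h0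
    have hu : IsUnit (X.presheaf.germ U y hyU g) := by
      letI := X.presheaf.algebra_section_stalk ⟨y, hyU⟩
      haveI := hU.isLocalization_stalk ⟨y, hyU⟩
      exact (IsLocalization.AtPrime.isUnit_to_map_iff (X.presheaf.stalk y) (hU.primeIdealOf ⟨y, hyU⟩).asIdeal g).2 hgy
    show X.presheaf.germ D y hy (X.presheaf.map _ s) = 0
    rw [X.presheaf.germ_res_apply]
    exact hu.mul_right_eq_zero.1 h0
  let C : X.Opens := ⟨{x}ᶜ, hx.isOpen_compl⟩
  let Uf : ULift.{u} Bool → X.Opens := fun i => if i.down then D else C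
  let sf : ∀ i, Γ(X, Uf i) := fun i => match i with
    | ⟨true⟩ => sD
    | ⟨false⟩ => (0 : Γ(X, C))
  have hres : ∀ (O : X.Opens) (hO : O ≤ D) (hO' : O ≤ C), X.presheaf.map (homOfLE hO).op sD = 0 := fun O hO hO' =>
    TopCat.Presheaf.section_ext X.sheaf O _ _ fun y hy => by
      show X.presheaf.germ O y hy (X.presheaf.map (homOfLE hO).op sD) = X.presheaf.germ O y hy 0
      rw [X.presheaf.germ_res_apply, map_zero]
      exact hsupp y (hO hy) (hO' hy)
  have hcomp : TopCat.Presheaf.IsCompatible X.presheaf Uf sf := fun i j => by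
    rcases i with ⟨_ | _⟩ <;> rcases j with ⟨_ | _⟩
    · rfl
    · exact (map_zero _).trans (hres (C ⊓ D) inf_le_right inf_le_left).symm
    · exact (hres (D ⊓ C) inf_le_left inf_le_right).trans (map_zero _).symm
    · rfl
  obtain ⟨g, hg, -⟩ := X.sheaf.existsUnique_gluing' Uf ⊤ (fun i => homOfLE le_top) (fun y _ => by
    refine Opens.mem_iSup.2 ?_
    by_cases hy : y = x
    · exact ⟨⟨true⟩, hy ▸ hxD⟩
    · exact ⟨⟨false⟩, hy⟩) sf hcomp
  refine ⟨g, ?_, fun y hy => ?_⟩
  · have h := congrArg (X.presheaf.germ D x hxD) (hg ⟨true⟩)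
    refine (X.presheaf.germ_res_apply (homOfLE (le_top : D ≤ ⊤)) x hxD g).symm.trans (h.trans ?_)
    exact X.presheaf.germ_res_apply (homOfLE (inf_le_left.trans inf_le_right : D ≤ W)) x hxD s
  · have h := congrArg (X.presheaf.germ C y hy) (hg ⟨false⟩)
    exact (X.presheaf.germ_res_apply (homOfLE (le_top : C ≤ ⊤)) y hy g).symm.trans (h.trans (map_zero _))

/-- With constant global functions and at least two points, the maximal ideal of a closed point is
not associated. -/
theorem maximalIdeal_notMem_ass [IsLocallyNoetherian X] {k : Type u} [Field k]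
    [X.Over (Spec (CommRingCat.of k))] (h : Function.Bijective (X ↘ Spec (CommRingCat.of k)).appTop)
    {x y : X} (hx : IsClosed ({x} : Set X)) (hy : y ≠ x) :
    maximalIdeal (X.presheaf.stalk x) ∉ associatedPrimes (X.presheaf.stalk x) (X.presheaf.stalk x) := fun hass => by
  obtain ⟨-, z, hz⟩ := Alg6.mem_ass_iff.mp hass
  have hz0 : z ≠ 0 := fun h0 => (maximalIdeal.isMaximal (X.presheaf.stalk x)).ne_top
    ((Ideal.eq_top_iff_one _).2 ((hz 1).2 (by simp [h0])))
  obtain ⟨g, hgx, hgy⟩ := exists_global_supported hx z fun a ha => (hz a).1 ha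
  obtain ⟨c, rfl⟩ := h.2 g
  have hc : c ≠ 0 := fun hc => hz0 (by rw [← hgx, hc, map_zero, map_zero])
  have hu : IsUnit c := by
    have h1 : (Scheme.ΓSpecIso (CommRingCat.of k)).hom c ≠ 0 := fun h0 => hc (by
      have := congrArg (Scheme.ΓSpecIso (CommRingCat.of k)).inv h0
      rwa [Iso.hom_inv_id_apply, map_zero] at this)
    have h2 := (isUnit_iff_ne_zero.2 h1 : IsUnit ((Scheme.ΓSpecIso (CommRingCat.of k)).hom c : k))
    have h3 := IsUnit.map (Scheme.ΓSpecIso (CommRingCat.of k)).inv.hom h2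
    exact (Iso.hom_inv_id_apply (Scheme.ΓSpecIso (CommRingCat.of k)) c) ▸ h3
  exact ((hu.map (X ↘ Spec (CommRingCat.of k)).appTop.hom).map (X.presheaf.germ ⊤ y trivial).hom).ne_zero (hgy y hy)

/-- A point with no proper generalization has a zero-dimensional local ring. -/
theorem ringKrullDim_stalk_le_zero (x : X) (h : ∀ y : X, y ⤳ x → y = x) :
    ringKrullDim (X.presheaf.stalk x) ≤ 0 := by
  haveI : Subsingleton (PrimeSpectrum (X.presheaf.stalk x)) := ⟨fun p q => by
    have hp : X.fromSpecStalk x p ⤳ x := (X.range_fromSpecStalk (x := x)).subset ⟨p, rfl⟩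
    have hq : X.fromSpecStalk x q ⤳ x := (X.range_fromSpecStalk (x := x)).subset ⟨q, rfl⟩
    exact (X.fromSpecStalk x).isEmbedding.injective ((h _ hp).trans (h _ hq).symm)⟩
  exact Order.krullDim_nonpos_of_subsingleton

end Groth.Agent.CurveCM
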